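import Mathlib

/-!
# Generic points over a Dedekind domain specializing to a closed point
-/

set_option autoImplicit false

universe u

namespace Groth.Agent.DedekindFibre

/-- A finitely generated domain over a one-dimensional domain, in which a maximal ideal over a
nonzero prime has no nonzero prime below it lying over zero, has trivial generic fibre. -/
theorem eq_bot_of_under_eq_bot {R C : Type u} [CommRing R] [IsDedekindDomain R] [CommRing C] [IsDomain C]
    [Algebra R C] [Algebra.FiniteType R C] [FaithfulSMul R C] (M : Ideal C) [hM : M.IsMaximal]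
    (hm : M.under R ≠ ⊥) (h : ∀ Q : Ideal C, Q.IsPrime → Q ≤ M → Q ≠ ⊥ → Q.under R ≠ ⊥)
    (Q : Ideal C) [Q.IsPrime] (hQ : Q.under R = ⊥) : Q = ⊥ := by
  classical
  have : IsNoetherianRing C := Algebra.FiniteType.isNoetherianRing R C
  let m := M.under R
  have hmmax : m.IsMaximal := Ideal.IsPrime.isMaximal inferInstance hm
  obtain ⟨π, hπm, hπ⟩ := (Submodule.ne_bot_iff _).1 hm
  let I : Ideal C := m.map (algebraMap R C)
  have hIM : I ≤ M := Ideal.map_comap_le
  have hπC : algebraMap R C π ≠ 0 :=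
    (map_ne_zero_iff _ (FaithfulSMul.algebraMap_injective R C)).2 hπ
  have hcontain : ∀ Q : Ideal C, Q.IsPrime → Q ≤ M → Q ≠ ⊥ → I ≤ Q := by
    intro Q hQp hQM hQ0
    have hle : Q.under R ≤ m := Ideal.comap_mono hQM
    have hmax : (Q.under R).IsMaximal := Ideal.IsPrime.isMaximal inferInstance (h Q hQp hQM hQ0)
    rw [show I = (Q.under R).map (algebraMap R C) by rw [hmax.eq_of_le hmmax.ne_top hle]]
    exact Ideal.map_comap_le
  have hπI : algebraMap R C π ∈ I := Ideal.mem_map_of_mem _ hπm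
  -- `M` has height one
  have hmin : M ∈ (Ideal.span {algebraMap R C π}).minimalPrimes := by
    obtain ⟨S, hS⟩ : ∃ S : Finset (Ideal C), ∀ Q, Q ∈ S ↔ Q ∈ (Ideal.span {algebraMap R C π}).minimalPrimes :=
      ⟨_, fun Q => (Ideal.finite_minimalPrimes_of_isNoetherianRing C _).mem_toFinset⟩
    by_contra hnot
    have hsub : (M : Set C) ⊆ ⋃ Q ∈ (↑(S.filter (· ≤ M)) : Set (Ideal C)), (Q : Set C) := by
      intro a ha
      rcases eq_or_ne a 0 with rfl | ha0
      · obtain ⟨Q, hQ, hQM⟩ := Ideal.exists_minimalPrimes_le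
          (show Ideal.span {algebraMap R C π} ≤ M from (Ideal.span_singleton_le_iff_mem _).2 (hIM hπI))
        exact Set.mem_iUnion₂.2 ⟨Q, Finset.mem_filter.2 ⟨(hS Q).2 hQ, hQM⟩, Q.zero_mem⟩
      obtain ⟨Q, hQ, hQM⟩ := Ideal.exists_minimalPrimes_le
        (show Ideal.span {a} ≤ M from (Ideal.span_singleton_le_iff_mem _).2 ha)
      have hQp : Q.IsPrime := hQ.1.1
      have haQ : a ∈ Q := hQ.1.2 (Ideal.mem_span_singleton_self a)
      have hπQ : algebraMap R C π ∈ Q := hcontain Q hQp hQM (fun e => ha0 (by simpa [e] using haQ)) hπI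
      obtain ⟨P, hP, hPQ⟩ := Ideal.exists_minimalPrimes_le
        (show Ideal.span {algebraMap R C π} ≤ Q from (Ideal.span_singleton_le_iff_mem _).2 hπQ)
      have hPp : P.IsPrime := hP.1.1
      have hP0 : P ≠ ⊥ := fun e => hπC (by simpa [e] using hP.1.2 (Ideal.mem_span_singleton_self _))
      obtain rfl : P = Q := by
        refine hPQ.antisymm ?_
        by_contra hne
        have hlt : P < Q := lt_of_le_not_ge hPQ hne
        have h1 := Ideal.height_le_one_of_isPrincipal_of_mem_minimalPrimes (Ideal.span {a}) Q hQ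
        have : P.FiniteHeight := inferInstance
        have h2 := Ideal.height_strict_mono_of_isPrime_of_isPrime hlt
        have h3 : P.height < 1 := h2.trans_le h1
        rw [Order.lt_one_iff, Ideal.height_eq_zero_iff_eq_bot] at h3
        exact hP0 h3
      exact Set.mem_iUnion₂.2 ⟨P, Finset.mem_filter.2 ⟨(hS P).2 hP, hQM⟩, haQ⟩
    obtain ⟨Q, hQS, hMQ⟩ := (Ideal.subset_union_prime ⊥ ⊥ fun Q hQ _ _ =>
      ((hS Q).1 (Finset.mem_filter.1 hQ).1).1.1).1 hsub
    obtain ⟨hQS, hQM⟩ := Finset.mem_filter.1 hQS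
    exact hnot ((hQM.antisymm hMQ) ▸ (hS Q).1 hQS)
  -- `M` is isolated in its fibre
  have hMI : M ∈ I.minimalPrimes := ⟨⟨hM.isPrime, hIM⟩, fun Q hQ hQM =>
    hmin.2 ⟨hQ.1, (Ideal.span_singleton_le_iff_mem _).2 (hQ.2 hπI)⟩ hQM⟩
  obtain ⟨S, hS⟩ : ∃ S : Finset (Ideal C), ∀ Q, Q ∈ S ↔ Q ∈ I.minimalPrimes :=
    ⟨_, fun Q => (Ideal.finite_minimalPrimes_of_isNoetherianRing C _).mem_toFinset⟩
  obtain ⟨s, hsM, hs⟩ : ∃ s ∉ M, ∀ Q ∈ S.erase M, s ∈ Q := by
    have hnle : ¬ (S.erase M).inf id ≤ M := fun hle => by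
      obtain ⟨Q, hQ, hQM⟩ := (Ideal.IsPrime.inf_le' hM.isPrime).1 hle
      obtain ⟨hne, hQS⟩ := Finset.mem_erase.1 hQ
      exact hne (hQM.antisymm (hMI.2 ((hS Q).1 hQS).1 hQM))
    obtain ⟨s, hs, hsM⟩ := Set.not_subset.1 hnle
    exact ⟨s, hsM, fun Q hQ => Finset.inf_le (f := id) hQ hs⟩
  let q : PrimeSpectrum C := ⟨M, hM.isPrime⟩
  have : Algebra.QuasiFiniteAt R M := by
    refine Algebra.QuasiFiniteAt.of_isOpen_singleton_fiber (R := R) q ?_
    refine ⟨PrimeSpectrum.basicOpen s, (PrimeSpectrum.basicOpen s).isOpen, ?_⟩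
    ext ⟨P, hP⟩
    refine ⟨fun hsP => Subtype.ext (PrimeSpectrum.ext ?_), ?_⟩
    · have hIP : I ≤ P.asIdeal := by
        have : P.asIdeal.under R = m := congrArg PrimeSpectrum.asIdeal hP
        rw [show I = (P.asIdeal.under R).map (algebraMap R C) by rw [this]]
        exact Ideal.map_comap_le
      obtain ⟨Q, hQ, hQP⟩ := Ideal.exists_minimalPrimes_le hIP
      rcases eq_or_ne Q M with rfl | hne
      · exact (hM.eq_of_le P.isPrime.ne_top hQP).symm
      · exact absurd (hQP (hs Q (Finset.mem_erase.2 ⟨hne, (hS Q).2 hQ⟩))) hsP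
    · intro e
      obtain rfl : P = q := congrArg Subtype.val e
      exact hsM
  have : Algebra.QuasiFiniteAt R (⊥ : Ideal C) := Algebra.QuasiFiniteAt.of_le (Q := M) bot_le
  -- `⊥` is open and closed in the generic fibre
  let z : PrimeSpectrum C := ⟨⊥, Ideal.isPrime_bot⟩
  let p := z.comap (algebraMap R C)
  let e := PrimeSpectrum.preimageHomeomorphFiber R C p
  have hclopen : IsClosed ({e ⟨z, rfl⟩} : Set _) := by
    have : Algebra.QuasiFiniteAt p.asIdeal.ResidueField (e ⟨z, rfl⟩).asIdeal :=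
      Algebra.QuasiFiniteAt.baseChange z.asIdeal _ congr($(e.symm_apply_apply ⟨z, rfl⟩).1.asIdeal).symm
    exact (Algebra.QuasiFiniteAt.isClopen_singleton (R := p.asIdeal.ResidueField) _).isClosed
  have hz : IsClosed ({⟨z, rfl⟩} : Set (PrimeSpectrum.comap (algebraMap R C) ⁻¹' {p})) := by
    rwa [← e.isClosed_image, Set.image_singleton]
  have hQp : (⟨Q, ‹_›⟩ : PrimeSpectrum C) ∈ PrimeSpectrum.comap (algebraMap R C) ⁻¹' {p} := by
    refine PrimeSpectrum.ext ?_
    show Q.under R = (⊥ : Ideal C).under R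
    rw [hQ]
    exact (Ideal.under_bot R C).symm
  have hsp : (⟨z, rfl⟩ : PrimeSpectrum.comap (algebraMap R C) ⁻¹' {p}) ⤳ ⟨⟨Q, ‹_›⟩, hQp⟩ :=
    (subtype_specializes_iff _ _).2 ((PrimeSpectrum.le_iff_specializes z ⟨Q, ‹_›⟩).1 bot_le)
  have := hsp.mem_closed hz rfl
  exact congrArg PrimeSpectrum.asIdeal (congrArg Subtype.val this)

end Groth.Agent.DedekindFibre
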